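import Cfsg.Agent.Lib.Classical.AltSection.SixBlocks.Labels

/-!
A group over the alternating group of degree eighteen with kernel of order prime to three has no
representation of degree two hundred and forty-eight in which every element of order three fixes at most
one hundred and eighty-eight dimensions.
-/

set_option autoImplicit false
set_option maxRecDepth 100000
set_option maxHeartbeats 2000000
set_option linter.unusedSectionVars false
set_option linter.style.haveILetI false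

namespace CfsgLib.Classical.AltSection.SixBlocks

open Eigen (E mem_E)
open E7Fourteen (lift_in fusion_in)

variable {L : Type} [Group L] [Finite L]

/-- The elements permuting a finite family by conjugation. -/
def permSub {ι : Type*} (x : ι → L) : Subgroup L :=
  Subgroup.closure {g | ∀ i, ∃ j, g * x i * g⁻¹ = x j}

theorem permSub_spec {ι : Type*} {x : ι → L} {g : L} (hg : g ∈ permSub x) :
    ∀ i, ∃ j, g * x i * g⁻¹ = x j := by
  have hpow : ∀ (a : L), (∀ i, ∃ j, a * x i * a⁻¹ = x j) → ∀ n i, ∃ j, a ^ n * x i * (a ^ n)⁻¹ = x j := by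
    intro a ha n
    induction n with
    | zero => exact fun i => ⟨i, by simp⟩
    | succ n ih =>
      intro i
      obtain ⟨j, hj⟩ := ih i
      obtain ⟨j', hj'⟩ := ha j
      exact ⟨j', by rw [← hj', ← hj, pow_succ']; group⟩
  induction hg using Subgroup.closure_induction with
  | mem g hg => exact hg
  | one => exact fun i => ⟨i, by simp⟩
  | mul a b _ _ ha hb =>
    intro i
    obtain ⟨j, hj⟩ := hb i
    obtain ⟨j', hj'⟩ := ha j
    exact ⟨j', by rw [← hj', ← hj]; group⟩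
  | inv a _ ha =>
    intro i
    have e : a⁻¹ = a ^ (orderOf a - 1) := inv_eq_of_mul_eq_one_right (by
      rw [← pow_succ', Nat.sub_add_cancel (orderOf_pos a), pow_orderOf_eq_one])
    rw [e]
    exact hpow a ha _ i

variable (π : L →* alternatingGroup (Fin 18)) {ι : Type*}

theorem act_of_image {x : ι → L} {Xb : ι → alternatingGroup (Fin 18)} (hx : ∀ i, π (x i) = Xb i)
    (hinj : ∀ i j, Xb i = Xb j → i = j) {g : L} (hg : g ∈ permSub x) {σ : ι → ι}
    (hσ : ∀ i, π g * Xb i * (π g)⁻¹ = Xb (σ i)) : ∀ i, g * x i * g⁻¹ = x (σ i) := fun i => by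
  obtain ⟨j, hj⟩ := permSub_spec hg i
  have h1 := congrArg π hj
  rw [map_mul, map_mul, map_inv, hx, hx, hσ] at h1
  rw [hj, hinj _ _ h1]

section main

variable {π}

/-- Lifts of the six cycles and of the two permutations of the blocks. -/
structure Frame (π : L →* alternatingGroup (Fin 18)) where
  /-- The lifts of the cycles. -/
  x : Fin 6 → L
  /-- The lift of the first permutation. -/
  s : L
  /-- The lift of the second permutation. -/
  s' : L
  /-- The exchange. -/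
  h : L
  hx : ∀ i, π (x i) = X i
  ox : ∀ i, x i ^ 3 = 1
  cx : ∀ i j, Commute (x i) (x j)
  hs : π s = S1
  os : s ^ 3 = 1
  as : ∀ i, s * x i * s⁻¹ = x (t1 i)
  os' : s' ^ 3 = 1
  as' : ∀ i, s' * x i * s'⁻¹ = x (t2 i)
  css : Commute s' s
  ah : ∀ i, h * x i * h⁻¹ = x (tr i)
  hhs : h * s * h⁻¹ = s'
  hhs' : h * s' * h⁻¹ = s ^ 2

theorem t_bij : Function.Bijective t1 ∧ Function.Bijective t2 ∧ Function.Bijective tr := by decide

theorem t1_fix : t1 3 = 3 ∧ t1 4 = 4 ∧ t1 5 = 5 := by decide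

theorem exists_lifts (hsurj : ∀ g, ∃ h ∈ (⊤ : Subgroup L), π h = g) (hK : ¬ 3 ∣ Nat.card π.ker)
    [Fact (Nat.Prime 3)] : ∀ n (Y : Fin n → alternatingGroup (Fin 18)), (∀ i, Y i ^ 3 = 1) →
      (∀ i j, Commute (Y i) (Y j)) →
      ∃ y : Fin n → L, (∀ i, π (y i) = Y i) ∧ (∀ i, y i ^ 3 = 1) ∧ ∀ i j, Commute (y i) (y j) := by
  intro n
  induction n with
  | zero => exact fun Y _ _ => ⟨Fin.elim0, fun i => i.elim0, fun i => i.elim0, fun i => i.elim0⟩
  | succ n ih =>
    intro Y hY hc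
    obtain ⟨y, e, o, c⟩ := ih (fun i => Y i.succ) (fun i => hY _) fun i j => hc _ _
    obtain ⟨z, -, ez, oz, cz⟩ := lift_in ⊤ hK (ℓ := 3) (xs := y) (fun _ => Subgroup.mem_top _) o c
      (hsurj (Y 0)) (hY 0) (fun i => by rw [e, (hc 0 i.succ).eq, mul_inv_cancel_right])
    refine ⟨Fin.cons z y, fun i => ?_, fun i => ?_, fun i j => ?_⟩
    · induction i using Fin.cases <;> simp [ez, e]
    · induction i using Fin.cases <;> simp [oz, o]
    · induction i using Fin.cases <;> induction j using Fin.cases <;>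
        simp [cz _, (cz _).symm, c _ _, Commute.refl]

theorem exists_frame (hπ : Function.Surjective π) (hK : ¬ 3 ∣ Nat.card π.ker) : Nonempty (Frame π) := by
  haveI : Fact (Nat.Prime 3) := ⟨Nat.prime_three⟩
  obtain ⟨B1, B2, B3, B4⟩ := X_basic
  obtain ⟨P1, P2, P12⟩ := S_basic
  obtain ⟨⟨R1, R2⟩, R3⟩ := Rh_act
  obtain ⟨x, hx, ox, cx⟩ := exists_lifts (fun g => let ⟨h, e⟩ := hπ g; ⟨h, Subgroup.mem_top h, e⟩) hK
    6 X B1 fun i j => B3 i j
  set N := permSub x
  have getN : ∀ (g : alternatingGroup (Fin 18)) (τ : Fin 6 → Fin 6),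
      (∀ i, g * X i * g⁻¹ = X (τ i)) → ∃ h ∈ N, π h = g := by
    intro g τ hg
    obtain ⟨h, e, hh⟩ := E7Lifts.fusion (xs := x) (ys := fun i => x (τ i)) hπ hK ox (fun i => ox _) cx
      (fun i j => cx _ _) g (fun i => by rw [hx, hx, hg])
    exact ⟨h, Subgroup.subset_closure fun i => ⟨τ i, hh i⟩, e⟩
  obtain ⟨s, sN, es, os, -⟩ := lift_in N hK (ℓ := 3) (ι := Empty) (xs := Empty.elim) (fun i => i.elim)
    (fun i => i.elim) (fun i => i.elim) (getN S1 t1 S1_act) P1 (fun i => i.elim)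
  obtain ⟨s', sN', es', os', cs⟩ := lift_in N hK (ℓ := 3) (ι := Unit) (xs := fun _ => s) (fun _ => sN)
    (fun _ => os) (fun _ _ => Commute.refl _) (getN S2 t2 S2_act) P2
    (fun _ => by rw [es, ← P12, mul_inv_cancel_right])
  obtain ⟨h, hN, eh, hh⟩ := fusion_in N hK (ℓ := 3) (xs := ![s, s']) (ys := ![s', s ^ 2])
    (by simp [Fin.forall_fin_two, sN, sN']) (by simp [Fin.forall_fin_two, sN', pow_mem sN])
    (by simp [Fin.forall_fin_two, os, os'])
    (by simp [Fin.forall_fin_two, os', ← pow_mul, pow_mul' s 2 3, os])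
    (by simp [Fin.forall_fin_two, cs (), (cs ()).symm])
    (by simp [Fin.forall_fin_two, (cs ()).pow_right 2, ((cs ()).pow_right 2).symm])
    (getN Rh tr R3) (by simp [Fin.forall_fin_two, es, es', map_pow, R1, R2])
  exact ⟨{ x := x, s := s, s' := s', h := h, hx := hx, ox := ox, cx := cx, hs := es, os := os,
           as := act_of_image π hx B4 sN (by rw [es]; exact S1_act), os' := os',
           as' := act_of_image π hx B4 sN' (by rw [es']; exact S2_act), css := cs (),
           ah := act_of_image π hx B4 hN (by rw [eh]; exact R3), hhs := hh 0, hhs' := hh 1 }⟩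

variable {k : Type} [Field k] [IsAlgClosed k] {V : Type*} [AddCommGroup V] [Module k V] [FiniteDimensional k V]
variable (ρ : L →* Module.End k V)

theorem rho_mul_apply (g h : L) (v : V) : ρ (g * h) v = ρ g (ρ h v) := by rw [map_mul]; rfl

theorem rho_apply_inv (g : L) (v : V) : ρ g⁻¹ (ρ g v) = v := by
  rw [← rho_mul_apply, inv_mul_cancel, map_one]; rfl

theorem rho_injective (g : L) : Function.Injective (ρ g) :=
  Function.LeftInverse.injective (rho_apply_inv ρ g)

theorem finrank_map (g : L) (U : Submodule k V) : Module.finrank k ↥(U.map (ρ g)) = Module.finrank k U :=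
  (Submodule.equivMapOfInjective _ (rho_injective ρ g) U).finrank_eq.symm

theorem mem_map (g : L) (U : Submodule k V) (v : V) : v ∈ U.map (ρ g) ↔ ρ g⁻¹ v ∈ U := by
  constructor
  · rintro ⟨w, hw, rfl⟩
    rwa [rho_apply_inv]
  · exact fun h => ⟨_, h, by rw [← rho_mul_apply, mul_inv_cancel, map_one]; rfl⟩

theorem eigen_iff (g u : L) (c : k) (v : V) :
    ρ u (ρ g⁻¹ v) = c • ρ g⁻¹ v ↔ ρ (g * u * g⁻¹) v = c • v := by
  rw [rho_mul_apply, rho_mul_apply, ← (rho_injective ρ g).eq_iff, map_smul,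
    show ρ g (ρ g⁻¹ v) = v by rw [← rho_mul_apply, mul_inv_cancel, map_one]; rfl]

theorem map_E (g u : L) {ξ : k} (j : ZMod 3) : (E ξ (ρ u) j).map (ρ g) = E ξ (ρ (g * u * g⁻¹)) j := by
  ext v
  rw [mem_map, mem_E, mem_E, eigen_iff]

theorem map_joint {ι : Type*} (g : L) (y : ι → L) {ξ : k} (l : ι → ZMod 3) :
    (joint ξ (fun i => ρ (y i)) l).map (ρ g) = joint ξ (fun i => ρ (g * y i * g⁻¹)) l := by
  ext v
  rw [mem_map, mem_joint, mem_joint]
  exact forall_congr' fun i => eigen_iff ρ g _ _ v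

theorem apply_commute {u w : L} (hc : Commute u w) (v : V) : ρ u (ρ w v) = ρ w (ρ u v) := by
  rw [← rho_mul_apply, ← rho_mul_apply, hc.eq]

theorem E_invariant {u w : L} (hc : Commute u w) {ξ : k} {j : ZMod 3} :
    ∀ v ∈ E ξ (ρ w) j, ρ u v ∈ E ξ (ρ w) j := fun v hv => by
  rw [mem_E] at hv ⊢
  rw [← apply_commute ρ hc, hv, map_smul]

theorem joint_invariant {ι : Type*} {u : L} {y : ι → L} (hc : ∀ i, Commute u (y i)) {ξ : k}
    {l : ι → ZMod 3} : ∀ v ∈ joint ξ (fun i => ρ (y i)) l, ρ u v ∈ joint ξ (fun i => ρ (y i)) l :=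
  fun v hv => by
    rw [mem_joint] at hv ⊢
    intro i
    rw [← apply_commute ρ (hc i), hv i, map_smul]

theorem three_cases : ∀ z : ZMod 3, z = 0 ∨ z = 1 ∨ z = 2 := by decide

theorem weight_ones : weight (fun _ => 1) = 6 := by decide

theorem mul_facts : (2 : ZMod 3) * 1 = 2 ∧ (2 : ZMod 3) * 2 = 1 ∧ (2 : ZMod 3) * 0 = 0 := by decide

theorem sum_three (g : ZMod 3 → ℕ) : ∑ a, g a = g 0 + g 1 + g 2 := by
  rw [show (Finset.univ : Finset (ZMod 3)) = {0, 1, 2} by decide]
  simp +decide [add_assoc]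

/-- A sum by weights from the numbers of the labels. -/
theorem sum_counts {α : Type*} (S : Finset α) (w : α → ℕ) (hw : ∀ a ∈ S, w a < 7) (F : ℕ → ℕ) (N : ℕ → ℕ)
    (hN : ∀ j : Fin 7, (S.filter fun a => w a = j.val).card = N j.val) :
    ∑ a ∈ S, F (w a) = N 0 * F 0 + N 1 * F 1 + N 2 * F 2 + N 3 * F 3 + N 4 * F 4 + N 5 * F 5 + N 6 * F 6 := by
  rw [sum_weight S w hw F, Finset.sum_congr rfl fun j hj => show _ = N j * F j by
    rw [hN ⟨j, Finset.mem_range.1 hj⟩]]
  simp [Finset.sum_range_succ]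

theorem fix_three_facts : (((2 : ℕ) : ZMod 3) ≠ 0) ∧ (2 : ZMod 3) * 2 = 1 := by decide

theorem arith {f0 f1 f2 f3 f4 f5 f6 d0 d1 d2 d3 d4 D : ℕ}
    (hall : f0 + 12 * f1 + 60 * f2 + 160 * f3 + 240 * f4 + 192 * f5 + 64 * f6 = 248)
    (hfirst : f0 + 10 * f1 + 40 * f2 + 80 * f3 + 80 * f4 + 32 * f5 ≤ 188)
    (e0 : f1 + f1 + f2 + f2 + f2 + f2 + f3 + f3 + d0 ≤ f0 + 6 * f2 + 2 * f3)
    (e1 : f2 + f2 + f3 + f3 + f3 + f3 + f4 + f4 + d1 ≤ f1 + 6 * f3 + 2 * f4)
    (e2 : f3 + f3 + f4 + f4 + f4 + f4 + f5 + f5 + d2 ≤ f2 + 6 * f4 + 2 * f5)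
    (e3 : f4 + f4 + f5 + f5 + f5 + f5 + f6 + f6 + d3 ≤ f3 + 6 * f5 + 2 * f6)
    (e4 : f4 + f4 + f5 + f5 + f5 + f5 + f6 + f6 + d4 ≤ 3 * f4 + 3 * f5 + 3 * f6)
    (h : f4 + f4 + f5 + f5 + f5 + f5 + f6 + f6 + D ≤ f3 + 6 * f5 + 2 * f6) : D = 0 ∧ f6 ≠ 0 := by
  obtain rfl | rfl : f3 = 0 ∨ f3 = 1 := by omega
  all_goals obtain rfl | rfl : f4 = 0 ∨ f4 = 1 := by omega
  all_goals obtain rfl | rfl : f5 = 0 ∨ f5 = 1 := by omega
  all_goals obtain rfl | rfl | rfl | rfl : f6 = 0 ∨ f6 = 1 ∨ f6 = 2 ∨ f6 = 3 := by omega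
  all_goals constructor <;> omega

/-- No representation of the degree in question. -/
theorem false_of_rep (hπ : Function.Surjective π) (hK : ¬ 3 ∣ Nat.card π.ker) (h3 : (3 : k) ≠ 0)
    (hdim : Module.finrank k V = 248)
    (hfix : ∀ t : L, t ^ 3 = 1 → π t ≠ 1 → Module.finrank k (LinearMap.ker (ρ t - 1)) ≤ 188) : False := by
  classical
  haveI : Fact (Nat.Prime 3) := ⟨Nat.prime_three⟩
  have hq : ((3 : ℕ) : k) ≠ 0 := by exact_mod_cast h3
  haveI : NeZero ((3 : ℕ) : k) := ⟨hq⟩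
  obtain ⟨ξ, hξ⟩ := Eigen.exists_primitive (k := k) 3
  obtain ⟨Fr⟩ := exists_frame hπ hK
  set x := Fr.x
  have ox : ∀ i, x i ^ 3 = 1 := Fr.ox
  have hxi : ∀ i, π (x i) = X i := Fr.hx
  set Rx : Fin 6 → Module.End k V := fun i => ρ (x i) with hRx
  have rpow : ∀ {u : L}, u ^ 3 = 1 → ρ u ^ 3 = 1 := fun hu => by rw [← map_pow, hu, map_one]
  have sq : ∀ {u : L}, u ^ 3 = 1 → ∀ (v : V) (j : ZMod 3),
      (ρ (u ^ 2) v = ξ ^ j.val • v ↔ ρ u v = ξ ^ (2 * j).val • v) := by
    intro u hu v j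
    constructor <;> intro h
    · have h2 : ρ (u ^ 2) (ρ (u ^ 2) v) = ρ u v := by
        rw [← rho_mul_apply, ← pow_add, show u ^ (2 + 2) = u ^ 3 * u by rw [← pow_succ], hu, one_mul]
      rw [← h2, h, map_smul, h, smul_smul, ← Eigen.pow_val_add hξ, two_mul]
    · rw [pow_two, rho_mul_apply, h, map_smul, h, smul_smul, ← Eigen.pow_val_add hξ,
        show 2 * j + 2 * j = 2 * 2 * j by ring, fix_three_facts.2, one_mul]
  -- invariance of the dimensions of the joint eigenspaces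
  let f : (Fin 6 → ZMod 3) → ℕ := fun l => Module.finrank k ↥(joint ξ Rx l)
  have hmove : ∀ (g : alternatingGroup (Fin 18)) (τ : Fin 6 → Fin 6) (a : Fin 6 → ℕ) (l l' : Fin 6 → ZMod 3),
      Function.Bijective τ → (∀ i, g * X i * g⁻¹ = X (τ i) ^ a i) → (∀ i, a i = 1 ∨ a i = 2) →
      (∀ i, l' (τ i) = (a i : ZMod 3) * l i) → f l' = f l := by
    intro g τ a l l' hτ hg ha hl
    obtain ⟨h, -, hh⟩ := E7Lifts.fusion (xs := x) (ys := fun i => x (τ i) ^ a i) hπ hK Fr.ox
      (fun i => by rw [← pow_mul, mul_comm, pow_mul, Fr.ox, one_pow]) Fr.cx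
      (fun i j => (Fr.cx _ _).pow_pow _ _) g (fun i => by rw [Fr.hx, map_pow, Fr.hx, hg])
    show Module.finrank k _ = Module.finrank k _
    rw [← finrank_map ρ h (joint ξ Rx l), map_joint]
    refine congrArg (fun S : Submodule k V => Module.finrank k S) ?_
    ext v
    rw [mem_joint, mem_joint, ← (Equiv.ofBijective τ hτ).forall_congr_right]
    refine forall_congr' fun i => ?_
    show ρ (x (τ i)) v = ξ ^ (l' (τ i)).val • v ↔ ρ (h * x i * h⁻¹) v = _
    rw [hh i, hl]
    rcases ha i with e | e <;> rw [e]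
    · rw [pow_one, Nat.cast_one, one_mul]
    · rw [sq (Fr.ox _), Nat.cast_ofNat]
  obtain ⟨A1, A2, A3⟩ := M_act
  have hinv : ∀ g ∈ moves, ∀ l, f (g l) = f l := by
    intro g hg l
    simp only [moves, List.mem_cons, List.not_mem_nil, or_false] at hg
    rcases hg with rfl | rfl | rfl
    · exact hmove M1 _ _ l _ (by decide) A1 (by decide) (fun i => by fin_cases i <;> simp)
    · exact hmove M2 _ _ l _ (by decide) A2 (by decide) (fun i => by fin_cases i <;> simp)
    · exact hmove M3 _ _ l _ (by decide) A3 (by decide) (fun i => by fin_cases i <;> simp)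
  set F : ℕ → ℕ := fun j => f (canon j) with hF
  have hf : ∀ l, f l = F (weight l) := fun l => eq_of_moves hinv l
  -- the whole space and the fixed space of a cycle
  have hall : F 0 + 12 * F 1 + 60 * F 2 + 160 * F 3 + 240 * F 4 + 192 * F 5 + 64 * F 6 = 248 := by
    have h := finrank_split_joint hξ hq 6 Rx (fun i => rpow (Fr.ox i))
      (fun i j => (Fr.cx i j).map ρ) ⊤ fun _ _ _ => Submodule.mem_top
    rw [finrank_top, hdim, Finset.sum_congr rfl fun l _ => show _ = F (weight l) by rw [top_inf_eq]; exact hf l,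
      sum_counts _ weight (fun l _ => weight_le l) F (fun w => ([1, 12, 60, 160, 240, 192, 64] : List ℕ).getD w 0) counts_all] at h
    simp at h
    omega
  have hfirst : F 0 + 10 * F 1 + 40 * F 2 + 80 * F 3 + 80 * F 4 + 32 * F 5 ≤ 188 := by
    have h0 := hfix (x 0) (Fr.ox 0) (by rw [Fr.hx]; exact X_basic.2.1 0)
    rw [← Eigen.E_zero ξ (q := 3), finrank_split_joint hξ hq 6 Rx (fun i => rpow (Fr.ox i))
      (fun i j => (Fr.cx i j).map ρ) _ fun i => E_invariant ρ (Fr.cx i 0)] at h0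
    have e : ∀ l : Fin 6 → ZMod 3, Module.finrank k ↥(E ξ (ρ (x 0)) (0 : ZMod 3) ⊓ joint ξ Rx l) =
        if l 0 = 0 then F (weight l) else 0 := fun l => by
      split_ifs with hl
      · rw [← hf l]
        refine congrArg (fun S : Submodule k V => Module.finrank k S) (inf_eq_right.2 fun v hv => ?_)
        rw [mem_E, ← hl]; exact mem_joint.1 hv 0
      · refine Submodule.finrank_eq_zero.2 ((Submodule.eq_bot_iff _).2 fun v hv => ?_)
        by_contra hv0
        refine hl (Eigen.zpow_inj hξ (smul_left_injective k hv0 ?_))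
        exact (mem_joint.1 hv.2 0).symm.trans ((mem_E ξ).1 hv.1)
    rw [Finset.sum_congr rfl fun l _ => e l, ← Finset.sum_filter,
      sum_counts _ weight (fun l _ => weight_le l) F (fun w => ([1, 10, 40, 80, 80, 32, 0] : List ℕ).getD w 0)
        (fun w => by rw [Finset.filter_filter]; exact counts_first w)] at h0
    simp at h0
    omega
  -- a block
  set y : Fin 3 → L := ![x 0, x 1, x 2] with hy
  set z : Fin 3 → L := ![x 3, x 4, x 5] with hz
  set u : L := x 0 * x 1 * x 2 with hu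
  have hys : ∀ (i : Fin 3) (v : V), ρ Fr.s (ρ (y i) v) = ρ (y (i + 1)) (ρ Fr.s v) := fun i v => by
    rw [← rho_mul_apply, ← rho_mul_apply, ← mul_inv_eq_iff_eq_mul.1 (show Fr.s * y i * Fr.s⁻¹ = y (i + 1) by
      fin_cases i <;> exact Fr.as _)]
  have czs : ∀ i, Commute Fr.s (z i) := fun i => mul_inv_eq_iff_eq_mul.1 (by
    fin_cases i <;> exact Fr.as _)
  have czy : ∀ i j, Commute (y i) (z j) := fun i j => by
    fin_cases i <;> fin_cases j <;> exact Fr.cx _ _
  have cy : ∀ i j, Commute (y i) (y j) := fun i j => by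
    fin_cases i <;> fin_cases j <;> exact Fr.cx _ _
  have oy : ∀ i, y i ^ 3 = 1 := fun i => by fin_cases i <;> exact Fr.ox _
  have cuz : ∀ i, Commute u (z i) := fun i => ((czy 0 i).mul_left (czy 1 i)).mul_left (czy 2 i)
  have cyu : ∀ i, Commute (y i) u := fun i => ((cy i 0).mul_right (cy i 1)).mul_right (cy i 2)
  have ou : u ^ 3 = 1 := by
    rw [((Fr.cx 0 2).mul_left (Fr.cx 1 2)).mul_pow, (Fr.cx 0 1).mul_pow, Fr.ox, Fr.ox, Fr.ox, one_mul, one_mul]
  have hjn : ∀ a b, joint ξ (fun i => ρ (z i)) b ⊓ joint ξ (fun i => ρ (y i)) a =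
      joint ξ Rx (jn a b) := fun a b => by
    ext v
    simp only [Submodule.mem_inf, mem_joint, Fin.forall_fin_succ, y, z, jn, Rx]
    simp
    tauto
  have hpiece : ∀ (e : ZMod 3) (a b : Fin 3 → ZMod 3),
      Module.finrank k ↥(joint ξ (fun i => ρ (z i)) b ⊓ E ξ (ρ u) e ⊓ joint ξ (fun i => ρ (y i)) a) =
        if a 0 + a 1 + a 2 = e then F (weight (jn a b)) else 0 := by
    intro e a b
    have hu' : ∀ v ∈ joint ξ (fun i => ρ (y i)) a, ρ u v = ξ ^ (a 0 + a 1 + a 2).val • v := fun v hv => by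
      have h' := mem_joint.1 hv
      show ρ (y 0 * y 1 * y 2) v = _
      rw [rho_mul_apply, rho_mul_apply, h' 2, map_smul, h' 1, map_smul, map_smul, h' 0, smul_smul,
        smul_smul, ← Eigen.pow_val_add hξ, ← Eigen.pow_val_add hξ]
      congr 3
      ring
    split_ifs with ha
    · rw [← hf]
      refine congrArg (fun S : Submodule k V => Module.finrank k S) ?_
      rw [← hjn]
      refine le_antisymm (inf_le_inf_right _ inf_le_left) fun v hv => ⟨⟨hv.1, ?_⟩, hv.2⟩
      rw [SetLike.mem_coe, mem_E, ← ha]; exact hu' v hv.2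
    · refine Submodule.finrank_eq_zero.2 ((Submodule.eq_bot_iff _).2 fun v hv => ?_)
      by_contra hv0
      refine ha (Eigen.zpow_inj hξ (smul_left_injective k hv0 ?_))
      exact (hu' v hv.2).symm.trans ((mem_E ξ).1 hv.1.2)
  have hblock : ∀ (e : ZMod 3) (b : Fin 3 → ZMod 3),
      Module.finrank k ↥(joint ξ (fun i => ρ (z i)) b ⊓ E ξ (ρ Fr.s) e) =
        ∑ a ∈ bySum e, F (weight (jn a b)) := by
    intro e b
    obtain ⟨g1, g2, g3, g4⟩ := G1_act
    obtain ⟨g, -, hg⟩ := E7Lifts.fusion (xs := ![Fr.s, x 3, x 4, x 5]) (ys := ![u, x 3, x 4, x 5]) hπ hK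
      (by simp [Fin.forall_fin_succ, Fr.os, ox]) (by simp [Fin.forall_fin_succ, ou, ox])
      (fun i j => by
        fin_cases i <;> fin_cases j <;>
          first | exact Commute.refl _ | exact Fr.cx _ _ | exact czs 0 | exact czs 1 | exact czs 2 |
            exact (czs 0).symm | exact (czs 1).symm | exact (czs 2).symm)
      (fun i j => by
        fin_cases i <;> fin_cases j <;>
          first | exact Commute.refl _ | exact Fr.cx _ _ | exact cuz 0 | exact cuz 1 | exact cuz 2 |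
            exact (cuz 0).symm | exact (cuz 1).symm | exact (cuz 2).symm)
      G1 (by simp [Fin.forall_fin_succ, hu, Fr.hs, hxi, g1, g2, g3, g4])
    have hgz : ∀ i, g * z i * g⁻¹ = z i := fun i => by
      fin_cases i
      · exact hg 1
      · exact hg 2
      · exact hg 3
    rw [← finrank_map ρ g, Submodule.map_inf _ (rho_injective ρ g), map_joint, map_E,
      show g * Fr.s * g⁻¹ = u from hg 0, funext fun i => congrArg ρ (hgz i),
      finrank_split_joint hξ hq 3 (fun i => ρ (y i)) (fun i => rpow (oy i)) (fun i j => (cy i j).map ρ) _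
        (fun i v hv => Submodule.mem_inf.2 ⟨joint_invariant ρ (czy i) v hv.1, E_invariant ρ (cyu i) v hv.2⟩),
      Finset.sum_congr rfl fun a _ => hpiece e a b, ← Finset.sum_filter]
    rfl
  have hge : ∀ (e : ZMod 3) (b : Fin 3 → ZMod 3),
      (∑ r, F (weight (jn (rep r) b))) + Module.finrank k ↥(joint ξ (fun i => ρ (z i)) b ⊓
        joint ξ (fun i => ρ (y i)) (fun _ => 1) ⊓ E ξ (ρ Fr.s) e) ≤ ∑ a ∈ bySum e, F (weight (jn a b)) := by
    intro e b
    have h := finrank_eigen_ge hξ hq (y := fun i => ρ (y i)) (rpow Fr.os) hys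
      (U := joint ξ (fun i => ρ (z i)) b) (joint_invariant ρ czs) e rep rep_inj
    rw [← hblock e b]
    refine le_trans (le_of_eq ?_) h
    congr 1
    refine Finset.sum_congr rfl fun r _ => ?_
    rw [hjn]
    exact (hf _).symm
  -- the sums
  let b : Fin 4 → Fin 3 → ZMod 3 := fun j i => if i.val < j.val then 1 else 0
  have hsum0 : ∀ j : Fin 4, ∑ a ∈ bySum 0, F (weight (jn a (b j))) =
      F j.val + 6 * F (j.val + 2) + 2 * F (j.val + 3) := fun j => by
    rw [sum_counts _ _ (fun a _ => weight_le _) F (fun w => (if w = j.val then 1 else 0) + (if w = j.val + 2 then 6 else 0) +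
      (if w = j.val + 3 then 2 else 0)) (counts_zero j)]
    fin_cases j <;> simp
  have hsum1 : ∑ a ∈ bySum 1, F (weight (jn a fun _ => 1)) = 3 * F 4 + 3 * F 5 + 3 * F 6 := by
    rw [sum_counts _ _ (fun a _ => weight_le _) F (fun w => (if w = 4 then 3 else 0) + (if w = 5 then 3 else 0) +
      (if w = 6 then 3 else 0)) counts_one]
    simp
  have e0 := hge 0 (b 0); rw [hsum0] at e0
  have e1 := hge 0 (b 1); rw [hsum0] at e1
  have e2 := hge 0 (b 2); rw [hsum0] at e2
  have e3 := hge 0 (b 3); rw [hsum0] at e3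
  have e4 := hge 1 (fun _ => 1)
  rw [hsum1] at e4
  simp +decide [Fin.sum_univ_eight, rep, jn, weight, b] at e0 e1 e2 e3 e4
  have hb3 : b 3 = fun _ => 1 := funext fun i => by fin_cases i <;> rfl
  -- the weight spaces of full support
  set W := joint ξ Rx (fun _ => 1) with hW
  have hD : Module.finrank k ↥(W ⊓ E ξ (ρ Fr.s) (0 : ZMod 3)) = 0 ∧ F 6 ≠ 0 := by
    have e : joint ξ (fun i => ρ (z i)) (b 3) ⊓ joint ξ (fun i => ρ (y i)) (fun _ => 1) = W := by
      rw [hjn, hb3]
      congr 1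
      funext i; fin_cases i <;> rfl
    have h := hge 0 (b 3)
    rw [e, hsum0] at h
    simp +decide [Fin.sum_univ_eight, rep, jn, weight, b] at h
    exact arith hall hfirst e0 e1 e2 e3 e4 h
  obtain ⟨hD0, hF6⟩ := hD
  have hWinv : ∀ g : L, ∀ τ : Fin 6 → Fin 6, Function.Bijective τ → (∀ i, g * x i * g⁻¹ = x (τ i)) →
      W.map (ρ g) = W := by
    intro g τ hτ hg
    rw [hW, map_joint]
    ext v
    rw [mem_joint, mem_joint]
    constructor <;> intro h i
    · obtain ⟨i, rfl⟩ := hτ.2 i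
      rw [show Rx (τ i) = ρ (x (τ i)) from rfl, ← hg i]
      exact h i
    · rw [hg i]
      exact h (τ i)
  obtain ⟨bt1, bt2, btr⟩ := t_bij
  have hWs : ∀ v ∈ W, ρ Fr.s v ∈ W := fun v hv => (hWinv Fr.s t1 bt1 Fr.as).le ⟨v, hv, rfl⟩
  have hWs' : ∀ v ∈ W, ρ Fr.s' v ∈ W := fun v hv => (hWinv Fr.s' t2 bt2 Fr.as').le ⟨v, hv, rfl⟩
  let G : ZMod 3 → ZMod 3 → ℕ := fun a c =>
    Module.finrank k ↥(W ⊓ E ξ (ρ Fr.s) a ⊓ E ξ (ρ Fr.s') c)
  have hrot : ∀ a c, G (2 * c) a = G a c := fun a c => by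
    show _ = Module.finrank k ↥(W ⊓ E ξ (ρ Fr.s) a ⊓ E ξ (ρ Fr.s') c)
    rw [← finrank_map ρ Fr.h (W ⊓ E ξ (ρ Fr.s) a ⊓ E ξ (ρ Fr.s') c), Submodule.map_inf _ (rho_injective ρ _),
      Submodule.map_inf _ (rho_injective ρ _), hWinv Fr.h tr btr Fr.ah, map_E, map_E, Fr.hhs, Fr.hhs']
    refine congrArg (fun S : Submodule k V => Module.finrank k S) ?_
    have e : E ξ (ρ (Fr.s ^ 2)) c = E ξ (ρ Fr.s) (2 * c) := by
      ext v; rw [mem_E, mem_E, sq Fr.os]
    rw [e, inf_right_comm]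
  have hrow : ∀ c, G 0 c = 0 := fun c => by
    show Module.finrank k _ = 0
    exact Nat.eq_zero_of_le_zero ((Submodule.finrank_mono inf_le_left).trans hD0.le)
  have htot : F 6 = ∑ a, ∑ c, G a c := by
    have h6 : Module.finrank k W = F 6 := by
      have := hf (fun _ => 1)
      rw [weight_ones] at this
      exact this
    rw [← h6, finrank_split hξ hq (rpow Fr.os) hWs]
    refine Finset.sum_congr rfl fun a _ => ?_
    exact finrank_split hξ hq (rpow Fr.os') fun v hv =>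
      Submodule.mem_inf.2 ⟨hWs' v hv.1, E_invariant ρ Fr.css v hv.2⟩
  have r00 := hrow 0; have r01 := hrow 1; have r02 := hrow 2
  have a01 := hrot 0 1; have a02 := hrot 0 2; have a10 := hrot 1 0; have a20 := hrot 2 0
  have a11 := hrot 1 1; have a12 := hrot 1 2; have a21 := hrot 2 1; have a22 := hrot 2 2
  obtain ⟨h21, h22, h20⟩ := mul_facts
  rw [h21] at a01 a11 a21
  rw [h22] at a02 a12 a22
  rw [h20] at a10 a20
  rw [sum_three, sum_three, sum_three, sum_three] at htot
  omega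

end main

end CfsgLib.Classical.AltSection.SixBlocks
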