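import Cfsg.Agent.Lib.Classical.AltSection.E7Fourteen

/-!
Six disjoint three-cycles on eighteen points, two elements permuting them in blocks of three, and the
labels of their joint eigenspaces.
-/

set_option autoImplicit false
set_option maxRecDepth 100000
set_option maxHeartbeats 2000000
set_option Elab.async false

namespace CfsgLib.Classical.AltSection.SixBlocks

open E7Fifteen (mkA path)

/-- The six three-cycles. -/
def X : Fin 6 → alternatingGroup (Fin 18) :=
  ![c3 0 1 2, c3 3 4 5, c3 6 7 8, c3 9 10 11, c3 12 13 14, c3 15 16 17]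

/-- The first block permuted cyclically. -/
def S1 : alternatingGroup (Fin 18) :=
  mkA [3, 4, 5, 6, 7, 8, 0, 1, 2, 9, 10, 11, 12, 13, 14, 15, 16, 17]
    [6, 7, 8, 0, 1, 2, 3, 4, 5, 9, 10, 11, 12, 13, 14, 15, 16, 17]
    (by decide +kernel) (by decide +kernel)

/-- The second block permuted cyclically. -/
def S2 : alternatingGroup (Fin 18) :=
  mkA [0, 1, 2, 3, 4, 5, 6, 7, 8, 12, 13, 14, 15, 16, 17, 9, 10, 11]
    [0, 1, 2, 3, 4, 5, 6, 7, 8, 15, 16, 17, 9, 10, 11, 12, 13, 14]
    (by decide +kernel) (by decide +kernel)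

/-- The cyclic permutation of the first block carried to the product of its cycles. -/
def G1 : alternatingGroup (Fin 18) :=
  mkA [3, 0, 6, 4, 1, 7, 5, 2, 8, 9, 10, 11, 12, 13, 14, 15, 16, 17]
    [1, 4, 7, 0, 3, 6, 2, 5, 8, 9, 10, 11, 12, 13, 14, 15, 16, 17]
    (by decide +kernel) (by decide +kernel)

/-- The blocks exchanged, one permutation inverted. -/
def Rh : alternatingGroup (Fin 18) :=
  mkA [9, 10, 11, 12, 13, 14, 15, 16, 17, 0, 1, 2, 6, 7, 8, 3, 4, 5]
    [9, 10, 11, 15, 16, 17, 12, 13, 14, 0, 1, 2, 3, 4, 5, 6, 7, 8]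
    (by decide +kernel) (by decide +kernel)

/-- The six cycles permuted, one of them inverted. -/
def M1 : alternatingGroup (Fin 18) :=
  mkA [3, 5, 4, 6, 7, 8, 9, 10, 11, 12, 13, 14, 15, 16, 17, 0, 1, 2]
    [15, 16, 17, 0, 2, 1, 3, 4, 5, 6, 7, 8, 9, 10, 11, 12, 13, 14]
    (by decide +kernel) (by decide +kernel)

/-- Two cycles exchanged, a third inverted. -/
def M2 : alternatingGroup (Fin 18) :=
  mkA [3, 4, 5, 0, 1, 2, 6, 8, 7, 9, 10, 11, 12, 13, 14, 15, 16, 17]
    [3, 4, 5, 0, 1, 2, 6, 8, 7, 9, 10, 11, 12, 13, 14, 15, 16, 17]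
    (by decide +kernel) (by decide +kernel)

/-- Two cycles inverted. -/
def M3 : alternatingGroup (Fin 18) :=
  mkA [0, 2, 1, 3, 5, 4, 6, 7, 8, 9, 10, 11, 12, 13, 14, 15, 16, 17]
    [0, 2, 1, 3, 5, 4, 6, 7, 8, 9, 10, 11, 12, 13, 14, 15, 16, 17]
    (by decide +kernel) (by decide +kernel)

/-- The action of the first block's permutation. -/
def t1 : Fin 6 → Fin 6 := ![1, 2, 0, 3, 4, 5]

/-- The action of the second block's permutation. -/
def t2 : Fin 6 → Fin 6 := ![0, 1, 2, 4, 5, 3]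

/-- The action of the exchange. -/
def tr : Fin 6 → Fin 6 := ![3, 4, 5, 0, 2, 1]

theorem X_basic : (∀ i, X i ^ 3 = 1) ∧ (∀ i, X i ≠ 1) ∧ (∀ i j, X i * X j = X j * X i) ∧
    (∀ i j, X i = X j → i = j) := by
  decide +kernel

theorem S_basic : S1 ^ 3 = 1 ∧ S2 ^ 3 = 1 ∧ S1 * S2 = S2 * S1 := by decide +kernel

theorem S1_act : ∀ i, S1 * X i * S1⁻¹ = X (t1 i) := by decide +kernel

theorem S2_act : ∀ i, S2 * X i * S2⁻¹ = X (t2 i) := by decide +kernel

theorem G1_act : G1 * S1 * G1⁻¹ = X 0 * X 1 * X 2 ∧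
    (G1 * X 3 * G1⁻¹ = X 3 ∧ G1 * X 4 * G1⁻¹ = X 4 ∧ G1 * X 5 * G1⁻¹ = X 5) := by
  decide +kernel

theorem Rh_act : (Rh * S1 * Rh⁻¹ = S2 ∧ Rh * S2 * Rh⁻¹ = S1 ^ 2) ∧
    ∀ i, Rh * X i * Rh⁻¹ = X (tr i) := by
  decide +kernel

theorem M_act : (∀ i, M1 * X i * M1⁻¹ = X (![1, 2, 3, 4, 5, 0] i) ^ (![2, 1, 1, 1, 1, 1] i : ℕ)) ∧
    (∀ i, M2 * X i * M2⁻¹ = X (![1, 0, 2, 3, 4, 5] i) ^ (![1, 1, 2, 1, 1, 1] i : ℕ)) ∧
    (∀ i, M3 * X i * M3⁻¹ = X (![0, 1, 2, 3, 4, 5] i) ^ (![2, 2, 1, 1, 1, 1] i : ℕ)) := by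
  decide +kernel

/-! ### Labels -/

/-- A label of the six cycles from two labels of three. -/
def jn (a b : Fin 3 → ZMod 3) : Fin 6 → ZMod 3 := ![a 0, a 1, a 2, b 0, b 1, b 2]

/-- The number of nonzero entries. -/
def weight (l : Fin 6 → ZMod 3) : ℕ :=
  (if l 0 = 0 then 0 else 1) + (if l 1 = 0 then 0 else 1) + (if l 2 = 0 then 0 else 1) +
    (if l 3 = 0 then 0 else 1) + (if l 4 = 0 then 0 else 1) + (if l 5 = 0 then 0 else 1)

/-- A representative of each number of nonzero entries. -/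
def canon (j : ℕ) : Fin 6 → ZMod 3 :=
  ![if 0 < j then 1 else 0, if 1 < j then 1 else 0, if 2 < j then 1 else 0, if 3 < j then 1 else 0,
    if 4 < j then 1 else 0, if 5 < j then 1 else 0]

/-- The moves on labels. -/
def moves : List ((Fin 6 → ZMod 3) → Fin 6 → ZMod 3) :=
  [fun l => ![l 5, 2 * l 0, l 1, l 2, l 3, l 4], fun l => ![l 1, l 0, 2 * l 2, l 3, l 4, l 5],
    fun l => ![2 * l 0, 2 * l 1, l 2, l 3, l 4, l 5]]

/-- The words leading to the labels. -/
def codes : List ℕ :=
  [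
    0, 1406, 781, 281, 806, 2031, 156, 156, 10181, 56, 51411, 906, 161, 161, 1411, 406, 406, 1656,
    31, 10281, 4536, 31, 31, 281, 2036, 2036, 8286, 11, 51431, 22782, 10282, 10282, 41532, 181,
    181, 1431, 32, 2444781, 2847906, 32, 32, 488531, 282, 282, 2441657, 81, 488906, 569531, 81, 81,
    488306, 331, 331, 97656, 6, 113286, 4556, 2056, 2056, 8306, 907, 907, 7157, 6, 2444581,
    2847706, 6, 6, 2441581, 56, 56, 488331, 407, 566536, 2835286, 407, 407, 2441532, 1657, 1657,
    488282, 2, 20157, 3907, 10286, 4032, 10157, 4558, 782, 35808, 2058, 113306, 4532, 2058, 807,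
    7057, 8308, 2032, 8282, 36, 51407, 22682, 36, 36, 1407, 286, 286, 41432, 8, 113331, 22782,
    488956, 10282, 41532, 569581, 4582, 35832, 8, 113306, 572681, 8, 8, 35332, 97706, 282, 97706,
    58, 178906, 113457, 58, 58, 182207, 488333, 8332, 207207, 16, 22656, 19557, 97781, 20182,
    50807, 113906, 907, 7157, 16, 113286, 114557, 16, 16, 7057, 97661, 1457, 97661, 66, 22656,
    22682, 66, 66, 36432, 19531, 1657, 19531, 1, 50782, 19538, 22657, 20163, 41407, 911, 911, 7161,
    411, 566533, 22663, 411, 411, 35288, 1661, 1661, 41413, 183, 207657, 113413, 183, 183, 7038,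
    1433, 1433, 207163, 1, 113291, 113913, 488916, 51413, 207663, 569541, 22913, 179163, 1, 566441,
    1285181, 1, 1, 176663, 488316, 1413, 488316, 11, 113291, 567288, 11, 11, 572666, 97666, 41663,
    97666, 83, 113283, 97788, 113307, 100913, 207057, 567057, 4538, 35788, 83, 566433, 572788, 83,
    83, 35288, 488308, 7288, 488308, 333, 113283, 113413, 333, 333, 182163, 97658, 8288, 97658, 0,
    4031, 781, 22658, 806, 2031, 22788, 156, 10181, 10288, 51411, 906, 10288, 161, 1411, 41538,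
    406, 1656, 182, 10281, 4536, 182, 31, 281, 1432, 1432, 8286, 82, 20161, 3911, 113308, 4036,
    10161, 257036, 181, 1431, 82, 51411, 22911, 82, 41, 1411, 488307, 291, 41661, 332, 100911,
    4536, 332, 81, 7286, 97657, 331, 8286, 38, 100816, 4556, 566583, 2056, 8306, 1038286, 916,
    7166, 38, 257066, 114566, 38, 6, 7066, 488532, 56, 208316, 288, 504566, 22691, 288, 288, 36441,
    566416, 1666, 41441, 0, 20166, 3916, 22658, 4041, 10166, 113408, 791, 35816, 97783, 100916,
    4541, 572783, 1041, 7291, 113408, 2041, 8291, 113908, 51416, 22916, 2864158, 36, 1416, 567283,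
    286, 41666, 0, 20161, 3911, 113288, 5161, 10161, 257036, 786, 35832, 0, 25786, 3911, 0, 0,
    1411, 97908, 291, 3911, 97663, 25791, 3916, 113288, 36, 1416, 97663, 286, 3916, 2, 35281, 7031,
    22658, 25807, 41408, 114533, 916, 7166, 2, 128932, 19557, 2, 2, 7057, 114533, 916, 7166, 19533,
    36406, 7031, 22658, 66, 7082, 19533, 1432, 7031, 20156, 4031, 781, 113332, 806, 2031, 51406,
    156, 7161, 100806, 20181, 906, 257056, 206, 1456, 504556, 406, 1656, 504081, 10281, 4581,
    1285331, 31, 281, 2522831, 1441, 8331, 97683, 20206, 3956, 113308, 5206, 10206, 257081, 181,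
    1431, 97683, 25806, 3931, 113308, 1, 1456, 97683, 181, 1431, 97708, 128913, 4581, 113333, 11,
    4581, 97708, 331, 7161, 20156, 4031, 781, 100906, 1031, 2031, 51406, 156, 7206, 97682, 26031,
    906, 113307, 6, 906, 97682, 56, 1656, 20156, 5156, 781, 113332, 31, 281, 25781, 156, 781, 3,
    10156, 3908, 4531, 4033, 8281, 4557, 783, 35807, 2057, 207661, 4533, 2057, 808, 7058, 8307,
    2033, 8283, 913, 41531, 22683, 913, 158, 1408, 7163, 7163, 41433, 413, 50786, 19558, 22661,
    20183, 41411, 113411, 908, 7158, 413, 207661, 114558, 413, 208, 7058, 567286, 1458, 208308,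
    1663, 254036, 22683, 1663, 408, 36433, 113411, 1658, 41433, 7, 207036, 22783, 113316, 10283,
    41533, 567066, 4583, 35833, 7, 1038316, 572833, 7, 7, 35333, 2441582, 283, 488331, 57, 566457,
    113458, 57, 57, 182208, 488332, 8333, 207208, 19541, 20157, 3907, 22666, 4032, 10157, 113416,
    782, 35807, 97791, 100907, 4532, 572791, 1032, 7282, 113416, 2032, 8282, 113916, 51407, 22907,
    2864166, 157, 1407, 567291, 7207, 41657, 19536, 20157, 3907, 22661, 5157, 10157, 114536, 782,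
    7158, 19536, 50786, 4532, 22661, 8, 4532, 19536, 282, 7158, 19541, 25782, 3907, 22666, 58,
    1407, 19541, 782, 3907, 97916, 20158, 3908, 35781, 5158, 10158, 179156, 783, 7157, 97791,
    129032, 4533, 97791, 7, 4533, 97916, 283, 7157, 100783, 25783, 3908, 35781, 57, 1408, 128908,
    783, 3908, 3, 10156, 19583, 4531, 7056, 8281, 22681, 1406, 41431, 19556, 50806, 7156, 114556,
    5208, 36458, 22681, 10208, 41431, 22781, 41531, 35831, 572831, 183, 7083, 113456, 1433, 207206,
    3, 50782, 19558, 22657, 25808, 41407, 114532, 3933, 179163, 3, 50806, 19558, 3, 3, 7058, 19581,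
    1458, 19558, 19532, 50782, 19583, 22657, 183, 7083, 19532, 1433, 19532, 13, 10156, 35158, 4531,
    7281, 8281, 22906, 1406, 35833, 13, 51031, 7156, 13, 13, 7156, 22906, 4583, 35806, 3906, 10156,
    35158, 4531, 333, 8281, 3906, 1406, 3906]

/-- The label with given digits to the base three. -/
def dec (n : ℕ) : Fin 6 → ZMod 3 :=
  ![((n / 243 : ℕ) : ZMod 3), ((n / 81 : ℕ) : ZMod 3), ((n / 27 : ℕ) : ZMod 3), ((n / 9 : ℕ) : ZMod 3),
    ((n / 3 : ℕ) : ZMod 3), (n : ZMod 3)]

/-- The moves on digits. -/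
def movesN : List (ℕ → ℕ) :=
  [fun n => 243 * (n % 3) + 81 * (2 * (n / 243) % 3) + n % 243 / 3,
    fun n => 243 * (n / 81 % 3) + 81 * (n / 243 % 3) + 27 * (2 * (n / 27) % 3) + n % 27,
    fun n => 243 * (2 * (n / 243) % 3) + 81 * (2 * (n / 81) % 3) + n % 81]

/-- The digits of a representative. -/
def canonN : ℕ → ℕ
  | 0 => 0
  | 1 => 243
  | 2 => 324
  | 3 => 351
  | 4 => 360
  | 5 => 363
  | _ => 364

/-- The number of nonzero digits. -/
def weightN (n : ℕ) : ℕ :=
  (if n / 243 % 3 = 0 then 0 else 1) + (if n / 81 % 3 = 0 then 0 else 1) +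
    (if n / 27 % 3 = 0 then 0 else 1) + (if n / 9 % 3 = 0 then 0 else 1) +
    (if n / 3 % 3 = 0 then 0 else 1) + (if n % 3 = 0 then 0 else 1)

/-- A word leads to every label. -/
theorem path_all : ∀ n : Fin 729, path movesN 11 (codes.getD n.val 0) (canonN (weightN n.val)) = n.val := by
  decide +kernel

theorem weight_le (l : Fin 6 → ZMod 3) : weight l < 7 := by
  unfold weight
  split_ifs <;> omega

/-- The representatives of the free orbits of a cyclic permutation of three entries. -/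
def rep : Fin 8 → Fin 3 → ZMod 3 :=
  ![![1, 0, 0], ![2, 0, 0], ![1, 1, 0], ![2, 2, 0], ![1, 2, 0], ![2, 1, 0], ![1, 1, 2], ![1, 2, 2]]

theorem rep_inj : Function.Injective
    (Sum.elim (fun q : Fin 8 × Fin 3 => fun i => rep q.1 (i - q.2)) fun _ : Unit => (fun _ => 1 : Fin 3 → ZMod 3)) := by
  decide +kernel

/-- A sum of values depending on a weight below seven. -/
theorem sum_weight {α : Type*} (S : Finset α) (w : α → ℕ) (hw : ∀ a ∈ S, w a < 7) (F : ℕ → ℕ) :
    ∑ a ∈ S, F (w a) = ∑ j ∈ Finset.range 7, (S.filter fun a => w a = j).card * F j := by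
  rw [← Finset.sum_fiberwise_of_maps_to (g := w) (t := Finset.range 7) fun a ha => Finset.mem_range.2 (hw a ha)]
  refine Finset.sum_congr rfl fun j _ => ?_
  rw [← smul_eq_mul, ← Finset.sum_const]
  exact Finset.sum_congr rfl fun a ha => by rw [(Finset.mem_filter.1 ha).2]

/-- The labels of three cycles by their sum. -/
def bySum (e : ZMod 3) : Finset (Fin 3 → ZMod 3) := Finset.univ.filter fun a => a 0 + a 1 + a 2 = e

theorem counts_zero : ∀ j : Fin 4, ∀ w : Fin 7,
    ((bySum 0).filter fun a => weight (jn a fun i => if i.val < j.val then 1 else 0) = w.val).card =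
      (if w.val = j.val then 1 else 0) + (if w.val = j.val + 2 then 6 else 0) +
        (if w.val = j.val + 3 then 2 else 0) := by
  decide +kernel

theorem counts_one : ∀ w : Fin 7,
    ((bySum 1).filter fun a => weight (jn a fun _ => 1) = w.val).card =
      (if w.val = 4 then 3 else 0) + (if w.val = 5 then 3 else 0) + (if w.val = 6 then 3 else 0) := by
  decide +kernel

theorem counts_all : ∀ w : Fin 7,
    ((Finset.univ : Finset (Fin 6 → ZMod 3)).filter fun l => weight l = w.val).card =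
      ([1, 12, 60, 160, 240, 192, 64] : List ℕ).getD w.val 0 := by
  decide +kernel

theorem counts_first : ∀ w : Fin 7,
    ((Finset.univ : Finset (Fin 6 → ZMod 3)).filter fun l => l 0 = 0 ∧ weight l = w.val).card =
      ([1, 10, 40, 80, 80, 32, 0] : List ℕ).getD w.val 0 := by
  decide +kernel

end CfsgLib.Classical.AltSection.SixBlocks
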