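import Cfsg.Agent.Lib.Classical.AltSection.Eigen

/-!
Joint eigenspaces of commuting operators of order three, and a lower bound for the eigenspaces of an
operator permuting three of them in a cycle.
-/

set_option autoImplicit false
set_option linter.unusedSectionVars false

namespace CfsgLib.Classical.AltSection.SixBlocks

open Eigen (E mem_E)

variable {k : Type*} [Field k] {V : Type*} [AddCommGroup V] [Module k V] [FiniteDimensional k V]
variable {ξ : k} (hξ : IsPrimitiveRoot ξ 3) (h3 : ((3 : ℕ) : k) ≠ 0)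

/-- A joint eigenspace. -/
def joint (ξ : k) {ι : Type*} (x : ι → Module.End k V) (l : ι → ZMod 3) : Submodule k V :=
  ⨅ i, E ξ (x i) (l i)

theorem mem_joint {ι : Type*} {x : ι → Module.End k V} {l : ι → ZMod 3} {v : V} :
    v ∈ joint ξ x l ↔ ∀ i, x i v = ξ ^ (l i).val • v := by
  simp [joint, Submodule.mem_iInf, mem_E]

include hξ h3

/-- An invariant space is the sum of its eigenspaces. -/
theorem finrank_split {x : Module.End k V} (hx : x ^ 3 = 1) {U : Submodule k V}
    (hU : ∀ u ∈ U, x u ∈ U) :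
    Module.finrank k U = ∑ j : ZMod 3, Module.finrank k ↥(U ⊓ E ξ x j) := by
  set y := x.restrict hU with hy
  have hpow : ∀ (n : ℕ) (v : U), (((y ^ n) v : U) : V) = (x ^ n) v := fun n v => by
    induction n with
    | zero => rfl
    | succ n ih => rw [pow_succ', pow_succ', Module.End.mul_apply, Module.End.mul_apply, ← ih]; rfl
  have hy' : y ^ 3 = 1 := LinearMap.ext fun v => Subtype.ext (by rw [hpow, hx]; rfl)
  have htop : (⨆ j ∈ (Finset.univ : Finset (ZMod 3)), E ξ y j) = ⊤ := eq_top_iff.2 fun v _ => by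
    simpa using Eigen.mem_iSup_E hξ h3 hy' v
  rw [← finrank_top k U, ← htop, Eigen.finrank_iSup_E hξ y Finset.univ]
  refine Finset.sum_congr rfl fun j _ => ?_
  have e : E ξ y j = (U ⊓ E ξ x j).comap U.subtype := by
    ext v
    rw [Submodule.mem_comap, Submodule.mem_inf, mem_E, mem_E, Subtype.ext_iff]
    exact ⟨fun h => ⟨v.2, h⟩, fun h => h.2⟩
  rw [e]
  exact LinearEquiv.finrank_eq (Submodule.comapSubtypeEquivOfLe inf_le_left)

/-- An invariant space is the sum of its joint eigenspaces. -/
theorem finrank_split_joint : ∀ (n : ℕ) (x : Fin n → Module.End k V), (∀ i, x i ^ 3 = 1) →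
    (∀ i j, Commute (x i) (x j)) → ∀ U : Submodule k V, (∀ i, ∀ u ∈ U, x i u ∈ U) →
      Module.finrank k U = ∑ l : Fin n → ZMod 3, Module.finrank k ↥(U ⊓ joint ξ x l) := by
  intro n
  induction n with
  | zero =>
    intro x _ _ U _
    rw [Fintype.sum_unique]
    exact (LinearEquiv.finrank_eq (LinearEquiv.ofEq _ _
      (inf_eq_left.2 fun v _ => mem_joint.2 fun i => i.elim0))).symm
  | succ n ih =>
    intro x hx hc U hU
    rw [finrank_split hξ h3 (hx 0) (hU 0), ← (Fin.consEquiv fun _ : Fin (n + 1) => ZMod 3).sum_comp,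
      Fintype.sum_prod_type]
    refine Finset.sum_congr rfl fun j _ => ?_
    rw [ih (fun i => x i.succ) (fun i => hx i.succ) (fun i i' => hc _ _) (U ⊓ E ξ (x 0) j)
      fun i u hu => ?_]
    · refine Finset.sum_congr rfl fun l _ => ?_
      refine congrArg (fun S : Submodule k V => Module.finrank k S) ?_
      ext v
      simp only [Submodule.mem_inf, mem_joint, Fin.consEquiv, Equiv.coe_fn_mk, Fin.forall_fin_succ,
        Fin.cons_zero, Fin.cons_succ, mem_E]
      tauto
    · refine ⟨hU _ u hu.1, (mem_E ξ).2 ?_⟩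
      rw [← Module.End.mul_apply, (hc 0 i.succ).eq, Module.End.mul_apply, (mem_E ξ).1 hu.2, map_smul]

omit h3 in
/-- A vanishing sum of joint eigenvectors with distinct labels has vanishing terms. -/
theorem eq_zero_of_sum {ι σ : Type*} [Fintype σ] (x : ι → Module.End k V) (a : σ → ι → ZMod 3)
    (ha : Function.Injective a) (v : σ → V) (hv : ∀ s, v s ∈ joint ξ x (a s)) (h : ∑ s, v s = 0) :
    ∀ s, v s = 0 := by
  classical
  intro s
  by_contra hs
  have hl := Eigen.linearIndependent_joint hξ x (fun t : {t // v t ≠ 0} => a t.1)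
    (ha.comp Subtype.val_injective) (fun t => v t.1) (fun t => t.2)
    (fun t i => (mem_E ξ).2 (mem_joint.1 (hv t.1) i))
  rw [Fintype.linearIndependent_iff] at hl
  refine one_ne_zero (hl (fun _ => (1 : k)) ?_ ⟨s, hs⟩)
  simp only [one_smul]
  rw [← Finset.sum_subtype (Finset.univ.filter fun t => v t ≠ 0) (by simp) v,
    Finset.sum_filter_ne_zero]
  exact h

/-- The eigenspaces of an operator permuting three operators in a cycle receive the free orbits of the
joint eigenspaces and what it has of its own on a fixed one. -/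
theorem finrank_eigen_ge {y : Fin 3 → Module.End k V} {s : Module.End k V} (hs : s ^ 3 = 1)
    (hsy : ∀ (i : Fin 3) (v : V), s (y i v) = y (i + 1) (s v)) {U : Submodule k V}
    (hU : ∀ u ∈ U, s u ∈ U) (e : ZMod 3) {R : Type*} [Fintype R] (rep : R → Fin 3 → ZMod 3)
    {d : Fin 3 → ZMod 3}
    (hdist : Function.Injective (Sum.elim (fun q : R × Fin 3 => fun i => rep q.1 (i - q.2)) fun _ : Unit => d)) :
    (∑ r, Module.finrank k ↥(U ⊓ joint ξ y (rep r))) + Module.finrank k ↥(U ⊓ joint ξ y d ⊓ E ξ s e) ≤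
      Module.finrank k ↥(U ⊓ E ξ s e) := by
  classical
  -- the averaging operator
  set c : Fin 3 → k := fun i => (ξ ^ (-((i.val : ZMod 3) * e)).val) with hc
  let P : Module.End k V := c 0 • 1 + c 1 • s + c 2 • s ^ 2
  have hs3 : ∀ v, s (s (s v)) = v := fun v => by
    rw [← Module.End.mul_apply, ← Module.End.mul_apply, ← pow_two, ← pow_succ, hs]; rfl
  have hPE : ∀ v, s (P v) = ξ ^ e.val • P v := fun v => by
    simp only [P, LinearMap.add_apply, LinearMap.smul_apply, Module.End.one_apply, map_add, map_smul,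
      pow_two, Module.End.mul_apply, hs3, smul_add, smul_smul, hc, ← Eigen.pow_val_add hξ]
    norm_num
    rw [show e + -(2 * e) = -e by ring, show -(2 * e) = e by
      have : (3 : ZMod 3) = 0 := by decide
      linear_combination (-e) * this]
    abel
  have hPU : ∀ v ∈ U, P v ∈ U := fun v hv => by
    simp only [P, LinearMap.add_apply, LinearMap.smul_apply, Module.End.one_apply, pow_two,
      Module.End.mul_apply]
    exact add_mem (add_mem (U.smul_mem _ hv) (U.smul_mem _ (hU _ hv))) (U.smul_mem _ (hU _ (hU _ hv)))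
  -- shifting the labels
  have hshift : ∀ (l : Fin 3 → ZMod 3) (v : V), v ∈ joint ξ y l → s v ∈ joint ξ y (fun i => l (i - 1)) := by
    intro l v hv
    rw [mem_joint] at hv ⊢
    intro i
    have h1 := hsy (i - 1) v
    rw [sub_add_cancel, hv (i - 1), map_smul] at h1
    exact h1.symm
  let A : ((r : R) → ↥(U ⊓ joint ξ y (rep r))) × ↥(U ⊓ joint ξ y d ⊓ E ξ s e) →ₗ[k] V :=
    (∑ r, (P.comp (Submodule.subtype _)).comp ((LinearMap.proj r).comp (LinearMap.fst k _ _))) +
      (Submodule.subtype _).comp (LinearMap.snd k _ _)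
  have hA : ∀ p, A p = (∑ r, P (p.1 r : V)) + (p.2 : V) := fun p => by
    simp [A]
  have hrange : LinearMap.range A ≤ U ⊓ E ξ s e := by
    rintro _ ⟨p, rfl⟩
    rw [hA]
    refine add_mem (sum_mem fun r _ => ⟨hPU _ (p.1 r).2.1, (mem_E ξ).2 (hPE _)⟩) ?_
    exact ⟨p.2.2.1.1, p.2.2.2⟩
  have hinj : Function.Injective A := by
    rw [← LinearMap.ker_eq_bot, Submodule.eq_bot_iff]
    intro p hp
    rw [LinearMap.mem_ker, hA] at hp
    have hz := eq_zero_of_sum hξ y _ hdist
      (Sum.elim (fun q : R × Fin 3 => c q.2 • (s ^ q.2.val) (p.1 q.1 : V)) fun _ => (p.2 : V)) ?_ ?_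
    · refine Prod.ext (funext fun r => Subtype.ext ?_) (Subtype.ext (hz (Sum.inr ())))
      have h0 := hz (Sum.inl (r, 0))
      simp only [Sum.elim_inl, Fin.val_zero, pow_zero, Module.End.one_apply, hc, Nat.cast_zero, zero_mul,
        neg_zero, ZMod.val_zero, one_smul] at h0
      exact h0
    · rintro (⟨r, i⟩ | u)
      · have h := (p.1 r).2.2
        refine Submodule.smul_mem _ _ ?_
        fin_cases i
        · simpa using h
        · simpa using hshift _ _ h
        · have h2 := hshift _ _ (hshift _ _ h)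
          simp only [Fin.mk_one, Fin.reduceFinMk, pow_two, Module.End.mul_apply, Sum.elim_inl]
          convert h2 using 3
          rw [sub_sub]; rfl
      · exact p.2.2.1.2
    · rw [Fintype.sum_sum_type, Fintype.sum_prod_type, Fintype.sum_unique (ι := Unit)]
      simp only [Sum.elim_inl, Sum.elim_inr, Fin.sum_univ_three, Fin.val_zero, Fin.val_one, Fin.val_two,
        pow_zero, pow_one, Module.End.one_apply]
      simpa [P] using hp
  calc (∑ r, Module.finrank k ↥(U ⊓ joint ξ y (rep r))) + Module.finrank k ↥(U ⊓ joint ξ y d ⊓ E ξ s e)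
      = Module.finrank k (((r : R) → ↥(U ⊓ joint ξ y (rep r))) × ↥(U ⊓ joint ξ y d ⊓ E ξ s e)) := by
        rw [Module.finrank_prod, Module.finrank_pi_fintype]
    _ = Module.finrank k (LinearMap.range A) := (LinearMap.finrank_range_of_inj hinj).symm
    _ ≤ Module.finrank k ↥(U ⊓ E ξ s e) := Submodule.finrank_mono hrange

end CfsgLib.Classical.AltSection.SixBlocks
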