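import Cfsg.Agent.Lib.Classical.AltSection.SixBlocks.Data
import Cfsg.Agent.Lib.Classical.AltSection.SixBlocks.Joint

/-!
A function on the labels invariant under the moves depends only on the number of nonzero entries.
-/

set_option autoImplicit false
set_option maxRecDepth 100000
set_option maxHeartbeats 1000000

namespace CfsgLib.Classical.AltSection.SixBlocks

open E7Fifteen (path path_const)

theorem weight_dec (n : ℕ) : weight (dec n) = weightN n := by
  simp [weight, weightN, dec, ZMod.natCast_eq_zero_iff, Nat.dvd_iff_mod_eq_zero]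

theorem dec_canonN : ∀ j : Fin 7, ∀ i, dec (canonN j.val) i = canon j.val i := by decide +kernel

theorem dec_moves_lt : ∀ n : Fin 729, ∀ (i : Fin 3) (c : Fin 6),
    dec ((movesN.getD i.val id) n.val) c = (moves.getD i.val id) (dec n.val) c := by
  decide +kernel

theorem dec_periodic (n : ℕ) : dec (n % 729) = dec n := by
  funext c
  fin_cases c <;>
    simp only [dec, Matrix.cons_val, Fin.isValue, Fin.zero_eta, Fin.mk_one, Fin.reduceFinMk] <;>
    rw [ZMod.natCast_eq_natCast_iff'] <;> omega

theorem movesN_periodic (n : ℕ) : ∀ i : Fin 3, (movesN.getD i.val id) (n % 729) = (movesN.getD i.val id) n := by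
  intro i
  have h1 : 2 * (n % 729 / 243) % 3 = 2 * (n / 243) % 3 := by omega
  have h2 : 2 * (n % 729 / 81) % 3 = 2 * (n / 81) % 3 := by omega
  have h3 : 2 * (n % 729 / 27) % 3 = 2 * (n / 27) % 3 := by omega
  have h4 : n % 729 / 243 % 3 = n / 243 % 3 := by omega
  have h5 : n % 729 / 81 % 3 = n / 81 % 3 := by omega
  have h6 : n % 729 % 3 = n % 3 := by omega
  have h7 : n % 729 % 243 = n % 243 := by omega
  have h8 : n % 729 % 27 = n % 27 := by omega
  have h9 : n % 729 % 81 = n % 81 := by omega
  fin_cases i <;> simp only [movesN, List.getD_cons_zero, List.getD_cons_succ, h1, h2, h3, h4, h5, h6, h7, h8, h9]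

theorem dec_moves (n : ℕ) (i : Fin 3) :
    dec ((movesN.getD i.val id) n) = (moves.getD i.val id) (dec n) := by
  rw [← movesN_periodic n i, ← dec_periodic n]
  exact funext (dec_moves_lt ⟨n % 729, Nat.mod_lt _ (by norm_num)⟩ i)

/-- The digits of a label. -/
def enc (l : Fin 6 → ZMod 3) : ℕ :=
  243 * (l 0).val + 81 * (l 1).val + 27 * (l 2).val + 9 * (l 3).val + 3 * (l 4).val + (l 5).val

theorem dec_enc (l : Fin 6 → ZMod 3) : dec (enc l) = l := by
  have h : ∀ i, (l i).val < 3 := fun i => ZMod.val_lt _
  have := h 0; have := h 1; have := h 2; have := h 3; have := h 4; have := h 5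
  have key : ∀ (m : ℕ) (z : ZMod 3), m % 3 = z.val → (m : ZMod 3) = z := fun m z e => by
    rw [← ZMod.natCast_mod, e, ZMod.natCast_zmod_val]
  funext c
  fin_cases c <;>
    simp only [dec, enc, Matrix.cons_val, Fin.isValue, Fin.zero_eta, Fin.mk_one, Fin.reduceFinMk] <;>
    refine key _ _ ?_ <;> omega

theorem eq_of_moves {β : Type*} {f : (Fin 6 → ZMod 3) → β} (h : ∀ g ∈ moves, ∀ l, f (g l) = f l)
    (l : Fin 6 → ZMod 3) : f l = f (canon (weight l)) := by
  have hN : ∀ g ∈ movesN, ∀ n, f (dec (g n)) = f (dec n) := by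
    intro g hg n
    obtain ⟨i, hi, rfl⟩ := List.getElem_of_mem hg
    have hi3 : i < 3 := hi
    have e := dec_moves n ⟨i, hi3⟩
    rw [List.getD_eq_getElem _ _ hi] at e
    rw [e]
    exact h _ (by rw [List.getD_eq_getElem _ _ (show i < moves.length from hi3)]; exact List.getElem_mem _) _
  have hn : enc l < 729 := by
    have h : ∀ i, (l i).val < 3 := fun i => ZMod.val_lt _
    have := h 0; have := h 1; have := h 2; have := h 3; have := h 4; have := h 5
    unfold enc; omega
  have hp := path_all ⟨enc l, hn⟩
  have hw : weightN (enc l) = weight l := by rw [← weight_dec, dec_enc]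
  have key := path_const (f := fun n => f (dec n)) hN 11 (codes.getD (enc l) 0) (canonN (weightN (enc l)))
  simp only at hp key
  rw [hp, dec_enc, hw] at key
  rw [key, funext (dec_canonN ⟨weight l, weight_le l⟩)]

end CfsgLib.Classical.AltSection.SixBlocks
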